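import Groth.Agent.Lib.PPoly3.Regular
import Groth.Agent.Lib.PBasis.Field
import Groth.Agent.Lib.AdicSmooth.RegularIff
import Mathlib.FieldTheory.IsAlgClosed.AlgebraicClosure
import Mathlib.RingTheory.TensorProduct.Basic

/-!
Regularity after `p`-radical base changes detects the injectivity of `Ω_k ⊗ K → Ω_A ⊗ K`.
-/

set_option autoImplicit false
set_option linter.style.haveILetI false

universe u

open IsLocalRing TensorProduct

namespace Groth.Agent.PPoly3

theorem isMaximal_relIdeal {k : Type u} [Field k] (p : ℕ) [Fact p.Prime] [CharP k p] {ι : Type u} (f : ι → k)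
    (hind : LinearIndependent (↥(frobenius k p).fieldRange)
      (fun e : {e : ι →₀ ℕ // ∀ i, e i < p} => EGA41.pMonomial f e.1)) :
    (PBasis.relIdeal p f).IsMaximal := by
  classical
  let K := AlgebraicClosure k
  have hp0 : 0 < p := (Fact.out : p.Prime).pos
  choose z hz using fun i => IsAlgClosed.exists_pow_nat_eq (algebraMap k K (f i)) hp0
  have hli : LinearIndependent k fun e : {e : ι →₀ ℕ // ∀ i, e i < p} => EGA41.pMonomial z e.1 := by
    rw [linearIndependent_iff']
    intro s g hg e he
    have h1 : ∑ e ∈ s, g e ^ p * EGA41.pMonomial f e.1 = 0 := by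
      apply (algebraMap k K).injective
      rw [map_zero, map_sum]
      haveI : CharP K p := charP_of_injective_algebraMap (algebraMap k K).injective p
      have hfr : ∑ i ∈ s, (g i • EGA41.pMonomial z i.1) ^ p = 0 := by
        rw [← sum_pow_char, hg, zero_pow hp0.ne']
      rw [← hfr]
      refine Finset.sum_congr rfl fun e _ => ?_
      rw [Algebra.smul_def, mul_pow, map_mul, map_pow]
      congr 1
      simp only [EGA41.pMonomial, Finsupp.prod, map_prod, map_pow, ← Finset.prod_pow, ← pow_mul]
      refine Finset.prod_congr rfl fun i _ => ?_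
      rw [mul_comm, pow_mul, hz]
    have h2 := linearIndependent_iff'.mp hind s (fun e => ⟨g e ^ p, g e, rfl⟩) h1 e he
    exact eq_zero_of_pow_eq_zero (congrArg Subtype.val h2)
  have hker := PBasis.ker_aeval_eq p z f hz hli
  rw [← hker]
  haveI : (RingHom.ker (MvPolynomial.aeval (R := k) z : MvPolynomial ι k →ₐ[k] K)).IsPrime := RingHom.ker_isPrime _
  let e := Ideal.quotientKerEquivRange (MvPolynomial.aeval (R := k) z)
  haveI : Algebra.IsIntegral k (MvPolynomial.aeval (R := k) z).range :=
    ⟨fun y => isIntegral_algHom_iff (MvPolynomial.aeval (R := k) z).range.val Subtype.val_injective |>.mp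
      (Algebra.IsIntegral.isIntegral (y : K))⟩
  refine Ideal.Quotient.maximal_of_isField _ ?_
  exact MulEquiv.isField (isField_of_isIntegral_of_isField' (Field.toIsField k)) e.toMulEquiv

theorem linearIndependent_pMonomial_of_D {k : Type u} [Field k] (p : ℕ) [Fact p.Prime] [CharP k p] {ι : Type u}
    (f : ι → k) (h : LinearIndependent k (fun i => KaehlerDifferential.D ℤ k (f i))) :
    LinearIndependent (↥(frobenius k p).fieldRange)
      (fun e : {e : ι →₀ ℕ // ∀ i, e i < p} => EGA41.pMonomial f e.1) := by
  let L : Subfield k := (frobenius k p).fieldRange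
  have hL : ∀ x : k, x ^ p ∈ L := fun x => ⟨x, rfl⟩
  refine (PBasis.linearIndependent_pMonomial_iff p L hL f).mpr ?_
  refine (PBasis.linearIndependent_D_iff p L hL f).mp ?_
  have hp : ∀ c : L, KaehlerDifferential.D ℤ k (c : k) = 0 := fun c => by
    obtain ⟨y, hy⟩ := c.2
    rw [← hy, frobenius_def, Derivation.leibniz_pow, ← Nat.cast_smul_eq_nsmul k p, CharP.cast_eq_zero k p, zero_smul]
  let d : Derivation L k (Ω[k⁄ℤ]) :=
    { toFun := KaehlerDifferential.D ℤ k
      map_add' := map_add _
      map_smul' := fun c x => by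
        show KaehlerDifferential.D ℤ k ((c : k) * x) = (c : k) • KaehlerDifferential.D ℤ k x
        rw [Derivation.leibniz, hp c, smul_zero, add_zero]
      map_one_eq_zero' := Derivation.map_one_eq_zero _
      leibniz' := Derivation.leibniz _ }
  refine LinearIndependent.of_comp d.liftKaehlerDifferential ?_
  have e : ⇑d.liftKaehlerDifferential ∘ (fun i => KaehlerDifferential.D L k (f i)) =
      fun i => KaehlerDifferential.D ℤ k (f i) := funext fun i => Derivation.liftKaehlerDifferential_comp_D d (f i)
  rw [e]
  exact h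

theorem linearIndependent_image {k A : Type u} [Field k] [CommRing A] [IsRegularLocalRing A] [Algebra k A]
    (p : ℕ) [Fact p.Prime] [CharP k p]
    (hreg : ∀ (k' : Type u) [Field k'] [Algebra k k'], Module.Finite k k' →
      (∀ x : k', x ^ p ∈ (algebraMap k k').range) → IsRegularRing (k' ⊗[k] A))
    {r : ℕ} (f : Fin r → k) (h : LinearIndependent k (fun i => KaehlerDifferential.D ℤ k (f i))) :
    LinearIndependent (ResidueField A)
      (fun i => (1 : ResidueField A) ⊗ₜ[A] KaehlerDifferential.D ℤ A (algebraMap k A (f i))) := by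
  classical
  let f' : ULift.{u} (Fin r) → k := fun i => f i.down
  have h' : LinearIndependent k (fun i => KaehlerDifferential.D ℤ k (f' i)) := h.comp ULift.down ULift.down_injective
  haveI hmax := isMaximal_relIdeal p f' (linearIndependent_pMonomial_of_D p f' h')
  have hp0 : 0 < p := (Fact.out : p.Prime).pos
  let J := PBasis.relIdeal p f'
  let k' := MvPolynomial (ULift.{u} (Fin r)) k ⧸ J
  letI : Field k' := Ideal.Quotient.field J
  let z : Fin r → k' := fun i => Ideal.Quotient.mk J (MvPolynomial.X ⟨i⟩)
  have hz : ∀ i, z i ^ p = algebraMap k k' (f i) := fun i => by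
    show Ideal.Quotient.mk J _ ^ p = Ideal.Quotient.mk J (MvPolynomial.C (f i))
    rw [← map_pow, Ideal.Quotient.eq]
    exact Ideal.subset_span ⟨⟨i⟩, rfl⟩
  haveI : CharP k' p := charP_of_injective_algebraMap (algebraMap k k').injective p
  have hzmk : (MvPolynomial.aeval (fun i : ULift.{u} (Fin r) => z i.down) : _ →ₐ[k] k') = Ideal.Quotient.mkₐ k J :=
    MvPolynomial.algHom_ext fun i => by rw [MvPolynomial.aeval_X]; rfl
  have hpow : ∀ x : k', x ^ p ∈ (algebraMap k k').range := by
    intro x
    obtain ⟨G, rfl⟩ := Ideal.Quotient.mk_surjective x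
    induction G using MvPolynomial.induction_on with
    | C a => exact ⟨a ^ p, by rw [map_pow]; rfl⟩
    | add a b ha hb => rw [map_add, add_pow_char]; exact add_mem ha hb
    | mul_X a i ha => rw [map_mul, mul_pow]; exact mul_mem ha ⟨f i.down, (hz i.down).symm⟩
  haveI hfin : Module.Finite k k' := by
    haveI : Algebra.IsIntegral k k' := ⟨fun x => by
      obtain ⟨a, ha⟩ := hpow x
      exact IsIntegral.of_pow hp0 (ha ▸ isIntegral_algebraMap)⟩
    haveI : Algebra.FiniteType k k' := Algebra.FiniteType.of_surjective (Ideal.Quotient.mkₐ k J) Ideal.Quotient.mk_surjective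
    exact Algebra.IsIntegral.finite
  have hR := hreg k' hfin hpow
  haveI : IsRegularRing (A ⊗[k] k') := IsRegularRing.of_ringEquiv (Algebra.TensorProduct.comm k k' A).toRingEquiv
  let t : Fin r → A ⊗[k] k' := fun i => (1 : A) ⊗ₜ[k] z i
  let F : Fin r → MvPolynomial (Fin r) A := fun i => MvPolynomial.X i ^ p - MvPolynomial.C (algebraMap k A (f i))
  have hsurj : Function.Surjective (MvPolynomial.aeval (R := A) t) := by
    intro y
    induction y using TensorProduct.induction_on with
    | zero => exact ⟨0, map_zero _⟩
    | tmul a x =>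
      obtain ⟨G, rfl⟩ := Ideal.Quotient.mk_surjective x
      refine ⟨MvPolynomial.C a * MvPolynomial.rename ULift.down (MvPolynomial.map (algebraMap k A) G), ?_⟩
      rw [map_mul, MvPolynomial.aeval_C, MvPolynomial.aeval_rename, MvPolynomial.aeval_map_algebraMap,
        show (MvPolynomial.aeval (t ∘ ULift.down) : _ →ₐ[k] A ⊗[k] k') =
          (Algebra.TensorProduct.includeRight).comp (Ideal.Quotient.mkₐ k J) by
          rw [← hzmk]
          exact MvPolynomial.algHom_ext fun i => by simp [t],
        AlgHom.comp_apply, Algebra.TensorProduct.algebraMap_apply, Algebra.TensorProduct.includeRight_apply,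
        Algebra.TensorProduct.tmul_mul_tmul, mul_one, one_mul]
      rfl
    | add a b ha hb =>
      obtain ⟨x, rfl⟩ := ha
      obtain ⟨w, rfl⟩ := hb
      exact ⟨x + w, map_add _ _ _⟩
  have hker : RingHom.ker (MvPolynomial.aeval (R := A) t) = Ideal.span (Set.range F) := by
    refine le_antisymm (fun G hG => ?_) (Ideal.span_le.mpr ?_)
    · let Q := MvPolynomial (Fin r) A ⧸ Ideal.span (Set.range F)
      let g₀ : MvPolynomial (ULift.{u} (Fin r)) k →ₐ[k] Q :=
        MvPolynomial.aeval fun i => Ideal.Quotient.mk _ (MvPolynomial.X i.down)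
      have hg₀ : J ≤ RingHom.ker g₀ := Ideal.span_le.mpr (by
        rintro _ ⟨i, rfl⟩
        show g₀ (MvPolynomial.X i ^ p - MvPolynomial.C (f' i)) = 0
        rw [map_sub, map_pow, MvPolynomial.aeval_X, MvPolynomial.aeval_C, ← map_pow,
          IsScalarTower.algebraMap_apply k A Q, IsScalarTower.algebraMap_apply A (MvPolynomial (Fin r) A) Q,
          MvPolynomial.algebraMap_eq, Ideal.Quotient.algebraMap_eq, ← map_sub, Ideal.Quotient.eq_zero_iff_mem]
        exact Ideal.subset_span ⟨i.down, rfl⟩)
      let g : A ⊗[k] k' →ₐ[A] Q := Algebra.TensorProduct.lift (Algebra.ofId A Q)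
        (Ideal.Quotient.liftₐ J g₀ hg₀) fun _ _ => Commute.all _ _
      have hgt : g.comp (MvPolynomial.aeval (R := A) t) = Ideal.Quotient.mkₐ A (Ideal.span (Set.range F)) :=
        MvPolynomial.algHom_ext fun i => by
          rw [AlgHom.comp_apply, MvPolynomial.aeval_X]
          simp only [g, t, Algebra.TensorProduct.lift_tmul, map_one, one_mul]
          show g₀ (MvPolynomial.X ⟨i⟩) = _
          rw [MvPolynomial.aeval_X]
          rfl
      rw [← Ideal.Quotient.eq_zero_iff_mem, ← Ideal.Quotient.mkₐ_eq_mk A, ← hgt, AlgHom.comp_apply,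
        RingHom.mem_ker.mp hG, map_zero]
    · rintro _ ⟨i, rfl⟩
      show MvPolynomial.aeval (R := A) t (F i) = 0
      simp only [F, t, map_sub, map_pow, MvPolynomial.aeval_X, MvPolynomial.aeval_C, Algebra.TensorProduct.tmul_pow,
        one_pow, hz]
      rw [Algebra.algebraMap_eq_smul_one (R := k) (f i), TensorProduct.tmul_smul, TensorProduct.smul_tmul',
        ← Algebra.algebraMap_eq_smul_one, Algebra.TensorProduct.algebraMap_apply, sub_eq_zero]
      rfl
  have hpA : (p : A) = 0 := by rw [← map_natCast (algebraMap k A), CharP.cast_eq_zero k p, map_zero]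
  let P : Fin r → Polynomial A := fun i => Polynomial.X ^ p - Polynomial.C (algebraMap k A (f i))
  obtain ⟨-, hiff⟩ := regular_iff p (hpA ▸ zero_mem _) (fun i => algebraMap k A (f i)) F t hsurj hker P
    (fun i => Polynomial.monic_X_pow_sub_C _ hp0.ne') (fun i => by rw [Polynomial.natDegree_X_pow_sub_C]; exact hp0.ne')
    (fun C _ φ w i => by simp [F, P, Polynomial.eval₂_sub]) (fun i => by simp [F])
  exact hiff.mp inferInstance

theorem injective_lTensor_of_linearIndependent {k A : Type u} [Field k] [CommRing A] [IsLocalRing A] [Algebra k A]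
    (h : ∀ {r : ℕ} (f : Fin r → k), LinearIndependent k (fun i => KaehlerDifferential.D ℤ k (f i)) →
      LinearIndependent (ResidueField A)
        (fun i => (1 : ResidueField A) ⊗ₜ[A] KaehlerDifferential.D ℤ A (algebraMap k A (f i)))) :
    Function.Injective ((KaehlerDifferential.mapBaseChange ℤ k A).lTensor (ResidueField A)) := by
  classical
  obtain ⟨s, hs, hspan, hli⟩ := exists_linearIndependent k (Set.range (KaehlerDifferential.D ℤ k))
  rw [KaehlerDifferential.span_range_derivation] at hspan
  let b : Module.Basis s k (Ω[k⁄ℤ]) := Module.Basis.mk hli (by rw [Subtype.range_val]; exact hspan.ge)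
  choose x hx using fun i : s => hs i.2
  let bA := Algebra.TensorProduct.basis A b
  let bK := Algebra.TensorProduct.basis (ResidueField A) bA
  let Φ := (KaehlerDifferential.mapBaseChange ℤ k A).baseChange (ResidueField A)
  have hΦ : ∀ i, Φ (bK i) = (1 : ResidueField A) ⊗ₜ[A] KaehlerDifferential.D ℤ A (algebraMap k A (x i)) := fun i => by
    simp [Φ, bK, bA, b, ← hx i]
  have hind : LinearIndependent (ResidueField A) (Φ ∘ bK) := by
    rw [linearIndependent_iff_finset_linearIndependent]
    intro T
    let e := T.equivFin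
    have hT : LinearIndependent k (fun j => KaehlerDifferential.D ℤ k (x (e.symm j : s))) := by
      have : (fun j => KaehlerDifferential.D ℤ k (x (e.symm j : s))) = (fun i : s => (i : Ω[k⁄ℤ])) ∘ fun j => (e.symm j : s) :=
        funext fun j => hx _
      rw [this]
      exact hli.comp _ (Subtype.val_injective.comp e.symm.injective)
    have := (h _ hT).comp e e.injective
    convert this using 1
    funext i
    simp [hΦ]
  have hinj : Function.Injective Φ := by
    rw [injective_iff_map_eq_zero]
    intro y hy
    rw [← bK.linearCombination_repr y, Finsupp.apply_linearCombination] at hy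
    rw [← bK.linearCombination_repr y, linearIndependent_iff.mp hind _ hy, map_zero]
  intro a c hac
  exact hinj hac

end Groth.Agent.PPoly3
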