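import Groth.Agent.Lib.PPoly3.Linear
import Groth.Agent.Lib.CartierEq3.Field
import Mathlib.Algebra.TrivSqZeroExt.Basic
import Mathlib.Algebra.CharP.Lemmas
import Mathlib.Algebra.Field.ZMod
import Mathlib.LinearAlgebra.Dual.Lemmas
import Mathlib.RingTheory.IntegralClosure.IsIntegralClosure.Basic
import Mathlib.FieldTheory.IsAlgClosed.AlgebraicClosure
import Mathlib.LinearAlgebra.TensorProduct.Tower
import Mathlib.RingTheory.Flat.Basic
import Mathlib.LinearAlgebra.Dimension.OrzechProperty

/-!
The cotangent space of `A[T]/(Tᵢ^p - fᵢ)` for a local ring `A` of characteristic `p` with `m² = 0`.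
-/

set_option autoImplicit false
set_option linter.style.haveILetI false

universe u

open TensorProduct IsLocalRing

namespace Groth.Agent.PPoly3

/-- A generated algebra with all `p`-th powers of the generators in the base has all `p`-th powers there. -/
theorem pow_mem_range {A B : Type u} [CommRing A] [CommRing B] [Algebra A B] (p : ℕ) [Fact p.Prime] [CharP B p]
    {r : ℕ} (f : Fin r → A) (t : Fin r → B) (hsurj : Function.Surjective (MvPolynomial.aeval (R := A) t))
    (hrel : ∀ i, t i ^ p = algebraMap A B (f i)) (x : B) : ∃ a, x ^ p = algebraMap A B a := by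
  obtain ⟨P, rfl⟩ := hsurj x
  induction P using MvPolynomial.induction_on with
  | C a => exact ⟨a ^ p, by simp⟩
  | add u v hu hv =>
    obtain ⟨a, ha⟩ := hu
    obtain ⟨b, hb⟩ := hv
    exact ⟨a + b, by rw [map_add, add_pow_char, ha, hb, map_add]⟩
  | mul_X u i hu =>
    obtain ⟨a, ha⟩ := hu
    exact ⟨a * f i, by rw [map_mul, mul_pow, ha, MvPolynomial.aeval_X, hrel, map_mul]⟩

theorem isLocalRing_of_pow {A B : Type u} [CommRing A] [IsLocalRing A] [CommRing B] [Algebra A B] [Nontrivial B]
    (hm : maximalIdeal A ^ 2 = ⊥) (p : ℕ) [Fact p.Prime] [CharP B p]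
    (hpow : ∀ x : B, ∃ a, x ^ p = algebraMap A B a) :
    IsLocalRing B ∧ IsLocalHom (algebraMap A B) := by
  have hp := (Fact.out : p.Prime).ne_zero
  have hunit : ∀ a : A, IsUnit (algebraMap A B a) → IsUnit a := fun a ha => by
    by_contra h
    have h2 : a ^ 2 = 0 := by
      have : a ^ 2 ∈ maximalIdeal A ^ 2 := Ideal.pow_mem_pow h 2
      rwa [hm, Ideal.mem_bot] at this
    have h3 := ha.pow 2
    rw [← map_pow, h2, map_zero, isUnit_zero_iff] at h3
    exact zero_ne_one h3
  refine ⟨IsLocalRing.of_nonunits_add fun x y hx hy => ?_, ⟨hunit⟩⟩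
  obtain ⟨a, ha⟩ := hpow x
  obtain ⟨b, hb⟩ := hpow y
  intro hxy
  have h1 : IsUnit (algebraMap A B (a + b)) := by
    rw [map_add, ← ha, ← hb, ← add_pow_char]
    exact hxy.pow p
  rcases IsLocalRing.isUnit_or_isUnit_of_isUnit_add (hunit _ h1) with h | h
  · exact hx ((isUnit_pow_iff hp).mp (ha ▸ h.map (algebraMap A B)))
  · exact hy ((isUnit_pow_iff hp).mp (hb ▸ h.map (algebraMap A B)))

theorem nontrivial_quotient (p : ℕ) [Fact p.Prime] {A : Type u} [CommRing A] [IsLocalRing A] {r : ℕ} (f : Fin r → A) :
    Nontrivial (MvPolynomial (Fin r) A ⧸ Ideal.span (Set.range fun i => MvPolynomial.X i ^ p - MvPolynomial.C (f i))) := by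
  let K := ResidueField A
  have hroot : ∀ i, ∃ z : AlgebraicClosure K, z ^ p = algebraMap K (AlgebraicClosure K) (residue A (f i)) :=
    fun i => IsAlgClosed.exists_pow_nat_eq _ (Fact.out : p.Prime).pos
  choose z hz using hroot
  let g := MvPolynomial.eval₂Hom ((algebraMap K (AlgebraicClosure K)).comp (residue A)) z
  refine RingHom.domain_nontrivial (Ideal.Quotient.lift _ g ?_)
  intro x hx
  refine (Ideal.span_le.mpr ?_ : _ ≤ RingHom.ker g) hx
  rintro _ ⟨i, rfl⟩
  simp [g, hz]

/-- The retraction of the conormal map of a local ring of characteristic `p`. -/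
theorem exists_derivation_cotangent {A : Type u} [CommRing A] [IsLocalRing A]
    (p : ℕ) [Fact p.Prime] [CharP A p] :
    ∃ d : Derivation ℤ A (CotangentSpace A), ∀ x : maximalIdeal A, d (x : A) = (maximalIdeal A).toCotangent x := by
  let P := ULift.{u} (ZMod p)
  let ι : P →+* A := (ZMod.castHom dvd_rfl A).comp (ULift.ringEquiv : P ≃+* ZMod p).toRingHom
  letI : Algebra P A := ι.toAlgebra
  haveI : Finite P := Finite.of_equiv _ Equiv.ulift.symm
  letI : Field P := (ULift.ringEquiv : P ≃+* ZMod p).toMulEquiv.isField (Field.toIsField (ZMod p)) |>.toField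
  letI : Algebra P (ResidueField A) := ((residue A).comp (algebraMap P A)).toAlgebra
  haveI : PerfectField P := PerfectField.ofFinite
  haveI : Algebra.FormallySmooth P (ResidueField A) := FieldFS.formallySmooth_of_perfectField P (ResidueField A)
  let π : (A ⧸ maximalIdeal A ^ 2) →ₐ[P] ResidueField A :=
    { Ideal.Quotient.lift (maximalIdeal A ^ 2) (residue A)
        (fun a ha => (residue_eq_zero_iff a).mpr (Ideal.pow_le_self two_ne_zero ha)) with
      commutes' := fun _ => rfl }
  have hπ : ∀ a, π (Ideal.Quotient.mk _ a) = residue A a := fun _ => rfl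
  have hker : IsNilpotent (RingHom.ker (π : (A ⧸ maximalIdeal A ^ 2) →+* ResidueField A)) := by
    refine ⟨2, le_bot_iff.mp ?_⟩
    have hle : RingHom.ker (π : (A ⧸ maximalIdeal A ^ 2) →+* ResidueField A) ≤
        (maximalIdeal A).map (Ideal.Quotient.mk (maximalIdeal A ^ 2)) := fun y hy => by
      obtain ⟨a, rfl⟩ := Ideal.Quotient.mk_surjective y
      exact Ideal.mem_map_of_mem _ ((residue_eq_zero_iff a).mp hy)
    exact (Ideal.pow_right_mono hle 2).trans (by rw [← Ideal.map_pow]; exact (Ideal.map_quotient_self _).le)
  have hπs : Function.Surjective π := fun z => by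
    obtain ⟨a, rfl⟩ := residue_surjective z
    exact ⟨Ideal.Quotient.mk _ a, rfl⟩
  let σ := Algebra.FormallySmooth.liftOfSurjective (AlgHom.id P (ResidueField A)) π hπs hker
  have hσ : ∀ z, π (σ z) = z := fun z =>
    Algebra.FormallySmooth.liftOfSurjective_apply (AlgHom.id P (ResidueField A)) π hπs hker z
  choose s hs using fun z => Ideal.Quotient.mk_surjective (σ z)
  have hmem : ∀ a, a - s (residue A a) ∈ maximalIdeal A := fun a => by
    rw [← residue_eq_zero_iff, map_sub, ← hπ (s _), hs, hσ, sub_self]
  let d₀ : A →+ CotangentSpace A :=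
    AddMonoidHom.mk' (fun a => (maximalIdeal A).toCotangent ⟨a - s (residue A a), hmem a⟩) fun a b => by
      rw [← map_add, Ideal.toCotangent_eq]
      show a + b - s (residue A (a + b)) - (a - s (residue A a) + (b - s (residue A b))) ∈ maximalIdeal A ^ 2
      rw [← Ideal.Quotient.eq_zero_iff_mem]
      simp only [map_add, map_sub, hs]
      ring
  refine ⟨Derivation.mk' d₀.toIntLinearMap fun a b => ?_, fun x => ?_⟩
  · show (maximalIdeal A).toCotangent _ = a • (maximalIdeal A).toCotangent _ + b • (maximalIdeal A).toCotangent _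
    rw [← map_smul, ← map_smul, ← map_add, Ideal.toCotangent_eq]
    show a * b - s (residue A (a * b)) - (a * (b - s (residue A b)) + b * (a - s (residue A a))) ∈ maximalIdeal A ^ 2
    have h2 : a * b - s (residue A a) * s (residue A b) - (a * (b - s (residue A b)) + b * (a - s (residue A a))) ∈
        maximalIdeal A ^ 2 := by
      rw [show a * b - s (residue A a) * s (residue A b) - (a * (b - s (residue A b)) + b * (a - s (residue A a))) =
        -((a - s (residue A a)) * (b - s (residue A b))) by ring, pow_two]
      exact neg_mem (Ideal.mul_mem_mul (hmem a) (hmem b))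
    rw [← Ideal.Quotient.eq_zero_iff_mem] at h2 ⊢
    simpa only [map_mul, map_sub, map_add, hs] using h2
  · show (maximalIdeal A).toCotangent _ = _
    rw [Ideal.toCotangent_eq]
    show (x : A) - s (residue A x) - x ∈ maximalIdeal A ^ 2
    rw [← Ideal.Quotient.eq_zero_iff_mem]
    simp [hs, (residue_eq_zero_iff (x : A)).mpr x.2]

/-- Exactness and injectivity of the conormal sequence in terms of ranks. -/
theorem finrank_ker_mapBaseChange {A : Type u} [CommRing A] [IsLocalRing A] [IsNoetherianRing A]
    (d : Derivation ℤ A (CotangentSpace A)) (hd : ∀ x : maximalIdeal A, d (x : A) = (maximalIdeal A).toCotangent x) :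
    Module.Finite (ResidueField A) (LinearMap.ker (KaehlerDifferential.mapBaseChange ℤ A (ResidueField A))) ∧
      Module.finrank (ResidueField A) (LinearMap.ker (KaehlerDifferential.mapBaseChange ℤ A (ResidueField A))) =
        Module.finrank (ResidueField A) (CotangentSpace A) := by
  have hker : RingHom.ker (algebraMap A (ResidueField A)) = maximalIdeal A := Ideal.mk_ker
  have hs : Function.Surjective (algebraMap A (ResidueField A)) := residue_surjective
  let e : CotangentSpace A ≃ₗ[A] (RingHom.ker (algebraMap A (ResidueField A))).Cotangent :=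
    Submodule.Quotient.equiv _ _ (LinearEquiv.ofEq (maximalIdeal A) (RingHom.ker (algebraMap A (ResidueField A))) hker.symm) (by
      rw [Submodule.map_smul'', Submodule.map_top, LinearMap.range_eq_top.mpr (LinearEquiv.surjective _)]
      exact congrArg (fun I : Ideal A => I • (⊤ : Submodule A (RingHom.ker (algebraMap A (ResidueField A))))) hker.symm)
  let c : CotangentSpace A →ₗ[ResidueField A] ResidueField A ⊗[A] Ω[A⁄ℤ] :=
    ((KaehlerDifferential.kerCotangentToTensor ℤ A (ResidueField A)).comp e.toLinearMap).extendScalarsOfSurjective hs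
  have hc : ∀ x : maximalIdeal A, c ((maximalIdeal A).toCotangent x) = 1 ⊗ₜ[A] KaehlerDifferential.D ℤ A (x : A) :=
    fun x => rfl
  let ρ : ResidueField A ⊗[A] Ω[A⁄ℤ] →ₗ[ResidueField A] CotangentSpace A :=
    d.liftKaehlerDifferential.liftBaseChange (ResidueField A)
  have hinj : Function.Injective c := by
    refine Function.LeftInverse.injective (g := ρ) fun y => ?_
    obtain ⟨x, rfl⟩ := (maximalIdeal A).toCotangent_surjective y
    rw [hc, LinearMap.liftBaseChange_tmul, one_smul, Derivation.liftKaehlerDifferential_comp_D, hd]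
  have hrange : LinearMap.range c = LinearMap.ker (KaehlerDifferential.mapBaseChange ℤ A (ResidueField A)) := by
    ext z
    refine Iff.trans ?_ (KaehlerDifferential.exact_kerCotangentToTensor_mapBaseChange ℤ A (ResidueField A) hs z).symm
    constructor
    · rintro ⟨y, rfl⟩; exact ⟨e y, rfl⟩
    · rintro ⟨y, rfl⟩
      exact ⟨e.symm y, congrArg _ (e.apply_symm_apply y)⟩
  let eq := (LinearEquiv.ofInjective c hinj).trans (LinearEquiv.ofEq _ _ hrange)
  exact ⟨Module.Finite.equiv eq, eq.finrank_eq.symm⟩

/-- Kernels commute with extension of fields. -/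
theorem finrank_ker_baseChange {K K' : Type u} [Field K] [Field K'] [Algebra K K'] {M N : Type u} [AddCommGroup M]
    [Module K M] [AddCommGroup N] [Module K N] (g : M →ₗ[K] N) (hg : Function.Surjective g)
    [Module.Finite K (LinearMap.ker g)] :
    Module.Finite K' (LinearMap.ker (g.baseChange K')) ∧
      Module.finrank K' (LinearMap.ker (g.baseChange K')) = Module.finrank K (LinearMap.ker g) := by
  have hex : Function.Exact ((LinearMap.ker g).subtype.baseChange K') (g.baseChange K') :=
    lTensor_exact K' (f := (LinearMap.ker g).subtype) (g := g) (LinearMap.exact_subtype_ker_map g) hg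
  have hinj : Function.Injective ((LinearMap.ker g).subtype.baseChange K') :=
    Module.Flat.lTensor_preserves_injective_linearMap _ Subtype.val_injective
  let e := (LinearEquiv.ofInjective _ hinj).trans (LinearEquiv.ofEq _ _ hex.linearMap_ker_eq.symm)
  exact ⟨Module.Finite.equiv e, by rw [← e.finrank_eq, Module.finrank_baseChange]⟩

/-- The key dimension count. -/
theorem finrank_cotangent_eq_iff {A B : Type u} [CommRing A] [IsLocalRing A] [IsNoetherianRing A] [CommRing B]
    [IsLocalRing B] [Algebra A B] [IsLocalHom (algebraMap A B)] [IsNoetherianRing B]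
    (p : ℕ) [Fact p.Prime] [CharP A p] [CharP B p]
    {r : ℕ} (f : Fin r → A) (t : Fin r → B) (hsurj : Function.Surjective (MvPolynomial.aeval (R := A) t))
    (hker : RingHom.ker (MvPolynomial.aeval (R := A) t) =
      Ideal.span (Set.range fun i => MvPolynomial.X i ^ p - MvPolynomial.C (f i))) :
    Module.finrank (ResidueField A) (CotangentSpace A) = Module.finrank (ResidueField B) (CotangentSpace B) ↔
      LinearIndependent (ResidueField A) (fun i => (1 : ResidueField A) ⊗ₜ[A] KaehlerDifferential.D ℤ A (f i)) := by
  classical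
  obtain ⟨dA, hdA⟩ := exists_derivation_cotangent (A := A) p
  obtain ⟨dB, hdB'⟩ := exists_derivation_cotangent (A := B) p
  have hrel : ∀ i, t i ^ p = algebraMap A B (f i) := fun i => by
    have h : MvPolynomial.X i ^ p - MvPolynomial.C (f i) ∈ RingHom.ker (MvPolynomial.aeval (R := A) t) :=
      hker ▸ Ideal.subset_span ⟨i, rfl⟩
    simpa [sub_eq_zero] using h
  let K := ResidueField A
  let K' := ResidueField B
  haveI : Algebra.IsIntegral A B := ⟨fun x => by
    obtain ⟨a, ha⟩ := pow_mem_range p f t hsurj hrel x
    exact IsIntegral.of_pow (Fact.out : p.Prime).pos (ha ▸ isIntegral_algebraMap)⟩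
  haveI : Algebra.FiniteType A B := Algebra.FiniteType.of_surjective (MvPolynomial.aeval (R := A) t) hsurj
  haveI : Module.Finite A B := Algebra.IsIntegral.finite
  haveI : Module.Finite A K' := Module.Finite.of_surjective (IsScalarTower.toAlgHom A B K').toLinearMap residue_surjective
  haveI : Module.Finite K K' := Module.Finite.of_restrictScalars_finite A K K'
  haveI : CharP K p := (CharP.charP_iff_prime_eq_zero Fact.out).mpr (by rw [← map_natCast (residue A), CharP.cast_eq_zero, map_zero])
  haveI : CharP K' p := (CharP.charP_iff_prime_eq_zero Fact.out).mpr (by rw [← map_natCast (residue B), CharP.cast_eq_zero, map_zero])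
  haveI : Algebra.IsAlgebraic K K' := Algebra.IsAlgebraic.of_finite K K'
  obtain ⟨hUfin, hUpfin, hcart⟩ := CartierEq3.cartier_equality K K'
  rw [trdeg_eq_zero (R := K) (A := K'), map_zero, Nat.cast_zero, sub_eq_zero, Nat.cast_inj] at hcart
  obtain ⟨hAfin, hAr⟩ := finrank_ker_mapBaseChange dA hdA
  obtain ⟨hBfin, hBr⟩ := finrank_ker_mapBaseChange dB hdB'
  let V₀ := K ⊗[A] Ω[A⁄ℤ]
  let W := K' ⊗[B] Ω[B⁄ℤ]
  let π₀ : V₀ →ₗ[K] Ω[K⁄ℤ] := KaehlerDifferential.mapBaseChange ℤ A K
  have hπ₀ : Function.Surjective π₀ := KaehlerDifferential.mapBaseChange_surjective ℤ A K residue_surjective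
  let π := π₀.baseChange K'
  have hπ : Function.Surjective π := LinearMap.lTensor_surjective K' hπ₀
  let q : W →ₗ[K'] Ω[K'⁄ℤ] := KaehlerDifferential.mapBaseChange ℤ B K'
  have hq : Function.Surjective q := KaehlerDifferential.mapBaseChange_surjective ℤ B K' residue_surjective
  let β : K' ⊗[K] Ω[K⁄ℤ] →ₗ[K'] Ω[K'⁄ℤ] := KaehlerDifferential.mapBaseChange ℤ K K'
  let α₀ : Ω[A⁄ℤ] →ₗ[A] W :=
    ((TensorProduct.mk B K' Ω[B⁄ℤ] 1).restrictScalars A).comp (KaehlerDifferential.map ℤ ℤ A B)
  let α : K' ⊗[K] V₀ →ₗ[K'] W := (α₀.liftBaseChange K).liftBaseChange K'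
  let v : Fin r → K' ⊗[K] V₀ := fun i => 1 ⊗ₜ[K] ((1 : K) ⊗ₜ[A] KaehlerDifferential.D ℤ A (f i))
  have hα : ∀ a, α (1 ⊗ₜ[K] ((1 : K) ⊗ₜ[A] KaehlerDifferential.D ℤ A a)) =
      (1 : K') ⊗ₜ[B] KaehlerDifferential.D ℤ B (algebraMap A B a) := fun a => by
    simp [α, α₀, KaehlerDifferential.map_D]
  have hsq : ∀ z, q (α z) = β (π z) := by
    intro z
    induction z using TensorProduct.induction_on with
    | zero => simp
    | add a b ha hb => simp only [map_add, ha, hb]
    | tmul c y =>
      induction y using TensorProduct.induction_on generalizing c with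
      | zero => simp
      | add a b ha hb => simp only [TensorProduct.tmul_add, map_add, ha c, hb c]
      | tmul k w =>
        have hw : w ∈ Submodule.span A (Set.range (KaehlerDifferential.D ℤ A)) := by
          rw [KaehlerDifferential.span_range_derivation]; trivial
        induction hw using Submodule.span_induction generalizing k c with
        | mem _ hx =>
          obtain ⟨a, rfl⟩ := hx
          have h1 : c ⊗ₜ[K] (k ⊗ₜ[A] KaehlerDifferential.D ℤ A a) =
              (k • c) • ((1 : K') ⊗ₜ[K] ((1 : K) ⊗ₜ[A] KaehlerDifferential.D ℤ A a)) := by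
            rw [TensorProduct.smul_tmul', smul_eq_mul, mul_one, TensorProduct.smul_tmul, TensorProduct.smul_tmul',
              smul_eq_mul, mul_one]
          rw [h1, map_smul, map_smul, map_smul, map_smul, hα]
          congr 1
          show KaehlerDifferential.mapBaseChange ℤ B K' _ = KaehlerDifferential.mapBaseChange ℤ K K' _
          simp only [π, LinearMap.baseChange_tmul, π₀, KaehlerDifferential.mapBaseChange_tmul, one_smul,
            KaehlerDifferential.map_D]
          rw [KaehlerDifferential.mapBaseChange_tmul, one_smul, KaehlerDifferential.map_D, KaehlerDifferential.map_D,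
            ← IsScalarTower.algebraMap_apply A K K', ← IsScalarTower.algebraMap_apply A B K']
        | zero => simp
        | add a b _ _ ha hb => simp only [TensorProduct.tmul_add, map_add, ha k c, hb k c]
        | smul a b _ hb => rw [← TensorProduct.smul_tmul]; exact hb (a • k) c
  -- extension of derivations
  have hext : ∀ (δ : Derivation ℤ A K'), (∀ i, δ (f i) = 0) → ∀ τ : Fin r → K',
      ∃ ψ : W →ₗ[K'] K', (∀ a, ψ (1 ⊗ₜ[B] KaehlerDifferential.D ℤ B (algebraMap A B a)) = δ a) ∧
        ∀ i, ψ (1 ⊗ₜ[B] KaehlerDifferential.D ℤ B (t i)) = τ i := by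
    intro δ hδ τ
    let g : A →+* TrivSqZeroExt K' K' :=
      { toFun := fun a => TrivSqZeroExt.inl (algebraMap A K' a) + TrivSqZeroExt.inr (δ a)
        map_one' := TrivSqZeroExt.ext (by simp) (by simp)
        map_mul' := fun a b => TrivSqZeroExt.ext (by simp; ring) (by
          simp [TrivSqZeroExt.snd_mul, Algebra.smul_def, mul_comm]; ring)
        map_zero' := TrivSqZeroExt.ext (by simp) (by simp)
        map_add' := fun a b => TrivSqZeroExt.ext (by simp; ring) (by simp; ring) }
    let G := MvPolynomial.eval₂Hom g fun i => TrivSqZeroExt.inl (residue B (t i)) + TrivSqZeroExt.inr (τ i)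
    have hp0 : ((p : ℕ) : TrivSqZeroExt K' K') = 0 := by
      rw [← TrivSqZeroExt.inl_natCast, CharP.cast_eq_zero, TrivSqZeroExt.inl_zero]
    have hG : ∀ P ∈ RingHom.ker (MvPolynomial.aeval (R := A) t).toRingHom, G P = 0 := by
      intro P hP
      change P ∈ RingHom.ker (MvPolynomial.aeval (R := A) t) at hP
      rw [hker] at hP
      refine (Ideal.span_le.mpr ?_ : _ ≤ RingHom.ker G) hP
      rintro _ ⟨i, rfl⟩
      show G (MvPolynomial.X i ^ p - MvPolynomial.C (f i)) = 0
      simp only [G, map_sub, map_pow, MvPolynomial.eval₂Hom_X', MvPolynomial.eval₂Hom_C]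
      have h1 : (TrivSqZeroExt.inl (residue B (t i)) + TrivSqZeroExt.inr (τ i) : TrivSqZeroExt K' K') ^ p =
          TrivSqZeroExt.inl (residue B (t i) ^ p) := by
        refine TrivSqZeroExt.ext (by simp) ?_
        rw [TrivSqZeroExt.snd_pow]
        simp
      rw [h1]
      show TrivSqZeroExt.inl (residue B (t i) ^ p) - (TrivSqZeroExt.inl (algebraMap A K' (f i)) + TrivSqZeroExt.inr (δ (f i))) = 0
      rw [← map_pow, hrel, hδ, TrivSqZeroExt.inr_zero, add_zero]
      exact sub_self _
    let H : B →+* TrivSqZeroExt K' K' := (MvPolynomial.aeval (R := A) t).toRingHom.liftOfSurjective hsurj ⟨G, hG⟩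
    have hH : ∀ P, H (MvPolynomial.aeval (R := A) t P) = G P := fun P =>
      RingHom.liftOfRightInverse_comp_apply _ _ _ ⟨G, hG⟩ P
    have hfst : ∀ b, (H b).fst = residue B b := by
      have : ((TrivSqZeroExt.fstHom K' K' K').toRingHom.comp H).comp (MvPolynomial.aeval (R := A) t).toRingHom =
          (residue B).comp (MvPolynomial.aeval (R := A) t).toRingHom := by
        refine MvPolynomial.ringHom_ext (fun a => ?_) fun i => ?_
        · show (H (MvPolynomial.aeval (R := A) t (MvPolynomial.C a))).fst = residue B (MvPolynomial.aeval (R := A) t (MvPolynomial.C a))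
          rw [hH]; simp [G, g]; rfl
        · show (H (MvPolynomial.aeval (R := A) t (MvPolynomial.X i))).fst = residue B (MvPolynomial.aeval (R := A) t (MvPolynomial.X i))
          rw [hH]; simp [G]
      intro b
      obtain ⟨P, rfl⟩ := hsurj b
      exact RingHom.congr_fun this P
    let D₀ : B →+ K' :=
      { toFun := fun b => (H b).snd
        map_zero' := by simp
        map_add' := fun x y => by simp }
    let D : Derivation ℤ B K' := Derivation.mk' D₀.toIntLinearMap fun x y => by
      show (H (x * y)).snd = x • (H y).snd + y • (H x).snd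
      rw [map_mul, TrivSqZeroExt.snd_mul, hfst, hfst, op_smul_eq_smul]
      rfl
    refine ⟨D.liftKaehlerDifferential.liftBaseChange K', fun a => ?_, fun i => ?_⟩
    · rw [LinearMap.liftBaseChange_tmul, one_smul, Derivation.liftKaehlerDifferential_comp_D]
      show (H (algebraMap A B a)).snd = δ a
      rw [show algebraMap A B a = MvPolynomial.aeval (R := A) t (MvPolynomial.C a) by simp, hH]
      simp [G, g]
    · rw [LinearMap.liftBaseChange_tmul, one_smul, Derivation.liftKaehlerDifferential_comp_D]
      show (H (t i)).snd = τ i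
      rw [show t i = MvPolynomial.aeval (R := A) t (MvPolynomial.X i) by simp, hH]
      simp [G]
  -- kernel of `α`
  have hkerα : LinearMap.ker α = Submodule.span K' (Set.range v) := by
    refine le_antisymm (fun z hz => ?_) (Submodule.span_le.mpr ?_)
    · by_contra hzv
      obtain ⟨φ, hφz, hφ⟩ := Submodule.exists_dual_map_eq_bot_of_notMem hzv inferInstance
      let δ : Derivation ℤ A K' := ((φ.restrictScalars A).comp
        (((TensorProduct.mk K K' V₀ 1).restrictScalars A).comp (TensorProduct.mk A K Ω[A⁄ℤ] 1))).compDer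
          (KaehlerDifferential.D ℤ A)
      have hδ : ∀ a, δ a = φ (1 ⊗ₜ[K] ((1 : K) ⊗ₜ[A] KaehlerDifferential.D ℤ A a)) := fun _ => rfl
      obtain ⟨ψ, hψ, -⟩ := hext δ (fun i => by
        rw [hδ, ← Submodule.mem_bot K', ← hφ]
        exact Submodule.mem_map_of_mem (Submodule.subset_span ⟨i, rfl⟩)) 0
      have hcomp : ψ.comp α = φ := by
        refine TensorProduct.AlgebraTensorModule.ext fun c y => ?_
        induction y using TensorProduct.induction_on generalizing c with
        | zero => simp
        | add a b ha hb => simp only [TensorProduct.tmul_add, map_add, ha c, hb c]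
        | tmul k w =>
          have hw : w ∈ Submodule.span A (Set.range (KaehlerDifferential.D ℤ A)) := by
            rw [KaehlerDifferential.span_range_derivation]; trivial
          induction hw using Submodule.span_induction generalizing k c with
          | mem _ hx =>
            obtain ⟨a, rfl⟩ := hx
            have h1 : c ⊗ₜ[K] (k ⊗ₜ[A] KaehlerDifferential.D ℤ A a) =
                (k • c) • ((1 : K') ⊗ₜ[K] ((1 : K) ⊗ₜ[A] KaehlerDifferential.D ℤ A a)) := by
              rw [TensorProduct.smul_tmul', smul_eq_mul, mul_one, TensorProduct.smul_tmul, TensorProduct.smul_tmul',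
                smul_eq_mul, mul_one]
            rw [h1, map_smul, map_smul, LinearMap.comp_apply, hα, hψ, hδ]
          | zero => simp
          | add a b _ _ ha hb => simp only [TensorProduct.tmul_add, map_add, ha k c, hb k c]
          | smul a b _ hb => rw [← TensorProduct.smul_tmul]; exact hb (a • k) c
      exact hφz (by rw [← hcomp, LinearMap.comp_apply, show α z = 0 from hz, map_zero])
    · rintro _ ⟨i, rfl⟩
      show α (v i) = 0
      rw [hα, ← hrel, Derivation.leibniz_pow, ← Nat.cast_smul_eq_nsmul B, CharP.cast_eq_zero, zero_smul,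
        TensorProduct.tmul_zero]
  -- cokernel of `α`
  choose ψ hψ₀ hψ₁ using fun i : Fin r => hext 0 (fun _ => rfl) (Pi.single i 1)
  let Φ : W →ₗ[K'] (Fin r → K') := LinearMap.pi ψ
  let τ : (Fin r → K') →ₗ[K'] W := Fintype.linearCombination K' fun i => (1 : K') ⊗ₜ[B] KaehlerDifferential.D ℤ B (t i)
  have hΦτ : ∀ cc, Φ (τ cc) = cc := fun cc => by
    funext i
    show ψ i (τ cc) = cc i
    simp [τ, Fintype.linearCombination_apply, hψ₁, Pi.single_apply]
  have hW : LinearMap.range α ⊔ LinearMap.range τ = ⊤ := by
    rw [eq_top_iff]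
    rintro z -
    induction z using TensorProduct.induction_on with
    | zero => exact zero_mem _
    | add a b ha hb => exact add_mem ha hb
    | tmul c w =>
      have hw : w ∈ Submodule.span B (Set.range (KaehlerDifferential.D ℤ B)) := by
        rw [KaehlerDifferential.span_range_derivation]; trivial
      induction hw using Submodule.span_induction generalizing c with
      | mem _ hx =>
        obtain ⟨b, rfl⟩ := hx
        rw [← mul_one c, ← smul_eq_mul, ← TensorProduct.smul_tmul']
        refine Submodule.smul_mem _ c ?_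
        clear c
        obtain ⟨P, rfl⟩ := hsurj b
        induction P using MvPolynomial.induction_on with
        | C a => exact Submodule.mem_sup_left ⟨_, by rw [MvPolynomial.aeval_C]; exact hα a⟩
        | add u v hu hv => rw [map_add, map_add, TensorProduct.tmul_add]; exact add_mem hu hv
        | mul_X u i hu =>
          rw [map_mul, MvPolynomial.aeval_X, Derivation.leibniz, TensorProduct.tmul_add,
            TensorProduct.tmul_smul, TensorProduct.tmul_smul,
            ← algebraMap_smul K' (MvPolynomial.aeval (R := A) t u), ← algebraMap_smul K' (t i)]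
          refine add_mem (Submodule.smul_mem _ _ (Submodule.mem_sup_right ⟨Pi.single i 1, ?_⟩)) (Submodule.smul_mem _ _ hu)
          simp [τ, Fintype.linearCombination_apply, Pi.single_apply]
      | zero => rw [TensorProduct.tmul_zero]; exact zero_mem _
      | add a b _ _ ha hb => rw [TensorProduct.tmul_add]; exact add_mem (ha c) (hb c)
      | smul b w _ hw => rw [← TensorProduct.smul_tmul]; exact hw (b • c)
  have hΦα : ∀ z, Φ (α z) = 0 := by
    intro z
    funext i
    show ψ i (α z) = 0
    induction z using TensorProduct.induction_on with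
    | zero => simp
    | add a b ha hb => rw [map_add, map_add, ha, hb, add_zero]
    | tmul c y =>
      induction y using TensorProduct.induction_on generalizing c with
      | zero => simp
      | add a b ha hb => simp only [TensorProduct.tmul_add, map_add, ha c, hb c, add_zero]
      | tmul k w =>
        have hw : w ∈ Submodule.span A (Set.range (KaehlerDifferential.D ℤ A)) := by
          rw [KaehlerDifferential.span_range_derivation]; trivial
        induction hw using Submodule.span_induction generalizing k c with
        | mem _ hx =>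
          obtain ⟨a, rfl⟩ := hx
          have h1 : c ⊗ₜ[K] (k ⊗ₜ[A] KaehlerDifferential.D ℤ A a) =
              (k • c) • ((1 : K') ⊗ₜ[K] ((1 : K) ⊗ₜ[A] KaehlerDifferential.D ℤ A a)) := by
            rw [TensorProduct.smul_tmul', smul_eq_mul, mul_one, TensorProduct.smul_tmul, TensorProduct.smul_tmul',
              smul_eq_mul, mul_one]
          rw [h1, map_smul, map_smul, hα, hψ₀]
          simp
        | zero => simp
        | add a b _ _ ha hb => simp only [TensorProduct.tmul_add, map_add, ha k c, hb k c, add_zero]
        | smul a b _ hb => rw [← TensorProduct.smul_tmul]; exact hb (a • k) c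
  have hΦker : LinearMap.ker Φ = LinearMap.range α := by
    refine le_antisymm (fun z hz => ?_) (by rintro _ ⟨z, rfl⟩; exact hΦα z)
    obtain ⟨_, ⟨a, rfl⟩, _, ⟨cc, rfl⟩, rfl⟩ := Submodule.mem_sup.mp (hW ▸ Submodule.mem_top : z ∈ LinearMap.range α ⊔ LinearMap.range τ)
    have : cc = 0 := by
      have h2 : Φ (α a + τ cc) = 0 := hz
      rwa [map_add, hΦα, zero_add, hΦτ] at h2
    rw [this, map_zero, add_zero]
    exact LinearMap.mem_range_self α a
  let eW : (W ⧸ LinearMap.range α) ≃ₗ[K'] (Fin r → K') :=
    (Submodule.quotEquivOfEq _ _ hΦker.symm).trans (Φ.quotKerEquivOfSurjective fun cc => ⟨τ cc, hΦτ cc⟩)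
  haveI : Module.Finite K' (W ⧸ LinearMap.range α) := Module.Finite.equiv eW.symm
  have hWr : Module.finrank K' (W ⧸ LinearMap.range α) = r := by rw [eW.finrank_eq, Module.finrank_fin_fun]
  -- kernels of `π`, `q`, `β`
  have hπker : Module.Finite K' (LinearMap.ker π) ∧ Module.finrank K' (LinearMap.ker π) = Module.finrank K (CotangentSpace A) := by
    haveI := hAfin
    obtain ⟨h1, h2⟩ := finrank_ker_baseChange (K' := K') π₀ hπ₀
    exact ⟨h1, h2.trans hAr⟩
  haveI := hπker.1
  haveI : Module.Finite K' (LinearMap.ker q) := hBfin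
  haveI : Module.Finite K' (LinearMap.ker β) := hUpfin
  have hidx := index_formula π q α β hπ hq hsq
  have hcok : Module.finrank K' (Ω[K'⁄ℤ] ⧸ LinearMap.range β) = Module.finrank K' Ω[K'⁄K] :=
    ((Submodule.quotEquivOfEq _ _ (KaehlerDifferential.exact_mapBaseChange_map ℤ K K').linearMap_ker_eq.symm).trans
      ((KaehlerDifferential.map ℤ K K' K').quotKerEquivOfSurjective (KaehlerDifferential.map_surjective ℤ K K'))).finrank_eq
  have hcart' : Module.finrank K' Ω[K'⁄K] = Module.finrank K' (LinearMap.ker β) := hcart
  have hqker : Module.finrank K' (LinearMap.ker q) = Module.finrank K' (CotangentSpace B) := hBr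
  rw [hkerα, hπker.2, hcok, ← hcart', hWr, hqker] at hidx
  have hli : LinearIndependent K (fun i => (1 : K) ⊗ₜ[A] KaehlerDifferential.D ℤ A (f i)) ↔
      Module.finrank K' (Submodule.span K' (Set.range v)) = r := by
    let L₀ := Fintype.linearCombination K (fun i => (1 : K) ⊗ₜ[A] KaehlerDifferential.D ℤ A (f i))
    have h1 : LinearIndependent K' v ↔ Module.finrank K' (Submodule.span K' (Set.range v)) = r := by
      rw [linearIndependent_iff_card_eq_finrank_span, Fintype.card_fin, Set.finrank]
      exact ⟨Eq.symm, Eq.symm⟩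
    rw [← h1]
    constructor
    · intro h
      obtain ⟨l, hl⟩ := L₀.exists_leftInverse_of_injective
        (LinearMap.ker_eq_bot.mpr (linearIndependent_iff_injective_fintypeLinearCombination.mp h))
      refine LinearIndependent.of_comp (l.baseChange K') ?_
      have : (l.baseChange K') ∘ v = fun i => (1 : K') ⊗ₜ[K] (Pi.single i (1 : K)) := by
        funext i
        show (1 : K') ⊗ₜ[K] l ((1 : K) ⊗ₜ[A] KaehlerDifferential.D ℤ A (f i)) = _
        congr 1
        have h2 := LinearMap.congr_fun hl (Pi.single i 1)
        simpa [L₀, Fintype.linearCombination_apply, Pi.single_apply] using h2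
      rw [this]
      convert ((Pi.basisFun K (Fin r)).baseChange K').linearIndependent using 1
      funext i
      simp
    · intro h
      rw [Fintype.linearIndependent_iff]
      intro g hg i
      have h2 := Fintype.linearIndependent_iff.mp h (fun j => algebraMap K K' (g j)) (by
        simp only [v, algebraMap_smul, ← TensorProduct.tmul_smul, ← TensorProduct.tmul_sum, hg, TensorProduct.tmul_zero]) i
      exact (map_eq_zero _).mp h2
  rw [hli]
  have hle : Module.finrank K' (Submodule.span K' (Set.range v)) ≤ r :=
    (finrank_range_le_card v).trans (Fintype.card_fin r).le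
  rw [show Module.finrank (ResidueField B) (CotangentSpace B) = Module.finrank K' (LinearMap.ker q) from hBr.symm,
    show Module.finrank (ResidueField A) (CotangentSpace A) = Module.finrank K (CotangentSpace A) from rfl]
  rw [← hqker] at hidx
  omega

end Groth.Agent.PPoly3
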