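import Mathlib.LinearAlgebra.FiniteDimensional.Lemmas
import Mathlib.LinearAlgebra.Isomorphisms

/-!
An index formula for a square of linear maps with finite dimensional kernels and cokernels.
-/

set_option autoImplicit false

universe u

namespace Groth.Agent.PPoly3

variable {L : Type u} [Field L] {V U W U' : Type u} [AddCommGroup V] [Module L V] [AddCommGroup U] [Module L U]
  [AddCommGroup W] [Module L W] [AddCommGroup U'] [Module L U']

/-- Finite dimensionality and rank-nullity for a restricted map. -/
theorem finrank_map_add {X : Submodule L V} [Module.Finite L X] (f : V →ₗ[L] W) :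
    Module.finrank L (X.map f) + Module.finrank L (LinearMap.ker f ⊓ X : Submodule L V) = Module.finrank L X := by
  rw [← LinearMap.range_domRestrict X f, ← (f.domRestrict X).finrank_range_add_finrank_ker]
  congr 1
  rw [LinearMap.ker_domRestrict]
  refine LinearEquiv.finrank_eq ?_
  exact (Submodule.equivSubtypeMap X (Submodule.comap X.subtype (LinearMap.ker f))).trans
    (LinearEquiv.ofEq _ _ (by rw [Submodule.map_comap_subtype, inf_comm])) |>.symm

theorem finite_of_map_of_ker (X : Submodule L V) (f : V →ₗ[L] W) [Module.Finite L (X.map f)]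
    [Module.Finite L (LinearMap.ker f)] : Module.Finite L X := by
  refine Module.Finite.iff_fg.mpr (Submodule.fg_of_fg_map_of_fg_inf_ker f (Module.Finite.iff_fg.mp ‹_›) ?_)
  haveI : Module.Finite L (X ⊓ LinearMap.ker f : Submodule L V) :=
    Submodule.finiteDimensional_of_le inf_le_right
  exact Module.Finite.iff_fg.mp inferInstance

theorem index_formula (π : V →ₗ[L] U) (q : W →ₗ[L] U') (α : V →ₗ[L] W) (β : U →ₗ[L] U')
    (hπ : Function.Surjective π) (hq : Function.Surjective q) (h : ∀ v, q (α v) = β (π v))
    [Module.Finite L (LinearMap.ker π)] [Module.Finite L (LinearMap.ker q)] [Module.Finite L (LinearMap.ker β)]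
    [Module.Finite L (W ⧸ LinearMap.range α)] :
    Module.finrank L (LinearMap.ker q) + Module.finrank L (LinearMap.ker α) +
        Module.finrank L (U' ⧸ LinearMap.range β) =
      Module.finrank L (LinearMap.ker π) + Module.finrank L (LinearMap.ker β) +
        Module.finrank L (W ⧸ LinearMap.range α) := by
  let X : Submodule L V := (LinearMap.ker β).comap π
  have hXπ : X.map π = LinearMap.ker β := by
    rw [Submodule.map_comap_eq, LinearMap.range_eq_top.mpr hπ, top_inf_eq]
  haveI : Module.Finite L (X.map π) := by rw [hXπ]; infer_instance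
  haveI := finite_of_map_of_ker X π
  have h1 : Module.finrank L X = Module.finrank L (LinearMap.ker π) + Module.finrank L (LinearMap.ker β) := by
    rw [← finrank_map_add (X := X) π, hXπ, inf_eq_left.mpr (fun v (hv : π v = 0) => show β (π v) = 0 by rw [hv, map_zero]),
      add_comm]
  have h2 : Module.finrank L (X.map α) + Module.finrank L (LinearMap.ker α) = Module.finrank L X := by
    rw [← finrank_map_add (X := X) α, inf_eq_left.mpr (fun v (hv : α v = 0) => show β (π v) = 0 by rw [← h, hv, map_zero])]
  let Q := (LinearMap.range α).mkQ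
  have h3 : LinearMap.ker Q ⊓ LinearMap.ker q = X.map α := by
    rw [Submodule.ker_mkQ]
    refine le_antisymm ?_ ?_
    · rintro _ ⟨⟨v, rfl⟩, hw⟩
      exact ⟨v, show β (π v) = 0 from (h v).symm.trans hw, rfl⟩
    · rintro _ ⟨v, hv, rfl⟩
      exact ⟨⟨v, rfl⟩, (h v).trans hv⟩
  have h4 := finrank_map_add (X := LinearMap.ker q) Q
  rw [h3] at h4
  have hle : LinearMap.range α ≤ (LinearMap.range β).comap q := by
    rintro _ ⟨v, rfl⟩
    exact ⟨π v, (h v).symm⟩
  let qb : (W ⧸ LinearMap.range α) →ₗ[L] U' ⧸ LinearMap.range β := Submodule.mapQ _ _ q hle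
  have hqb : Function.Surjective qb := by
    intro y
    obtain ⟨y, rfl⟩ := Submodule.Quotient.mk_surjective _ y
    obtain ⟨w, rfl⟩ := hq y
    exact ⟨Submodule.Quotient.mk w, rfl⟩
  have h5 : LinearMap.ker qb = (LinearMap.ker q).map Q := by
    refine le_antisymm ?_ ?_
    · intro y hy
      obtain ⟨w, rfl⟩ := Submodule.Quotient.mk_surjective _ y
      obtain ⟨u, hu⟩ := (Submodule.Quotient.mk_eq_zero _).mp (show (Submodule.Quotient.mk (q w) : U' ⧸ LinearMap.range β) = 0 from hy)
      obtain ⟨v, rfl⟩ := hπ u
      refine ⟨w - α v, show q (w - α v) = 0 by rw [map_sub, h, hu, sub_self], ?_⟩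
      show Q (w - α v) = Q w
      rw [map_sub, show Q (α v) = 0 from (Submodule.Quotient.mk_eq_zero _).mpr ⟨v, rfl⟩, sub_zero]
    · rintro _ ⟨w, hw, rfl⟩
      show (Submodule.Quotient.mk (q w) : U' ⧸ LinearMap.range β) = 0
      rw [show q w = 0 from hw, Submodule.Quotient.mk_zero]
  have h6 := qb.finrank_range_add_finrank_ker
  rw [LinearMap.range_eq_top.mpr hqb, finrank_top, h5] at h6
  omega

end Groth.Agent.PPoly3
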