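import Groth.Agent.Lib.VarDim.Alg
import Groth.Agent.Lib.RegCpl3.Basic
import Mathlib.RingTheory.AdjoinRoot
import Mathlib.RingTheory.RegularLocalRing.Defs
import Mathlib.RingTheory.Nakayama
import Mathlib.RingTheory.Kaehler.Basic
import Mathlib.LinearAlgebra.TensorProduct.Tower
import Mathlib.RingTheory.Ideal.Cotangent

/-!
Local rings defined by monic polynomials in separate variables.
-/

set_option autoImplicit false
set_option linter.style.haveILetI false

universe u

open IsLocalRing TensorProduct

namespace Groth.Agent.PPoly3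

theorem exists_roots {A : Type u} [CommRing A] [Nontrivial A] {r : ℕ} (P : Fin r → Polynomial A)
    (hm : ∀ i, (P i).Monic) (hd : ∀ i, (P i).natDegree ≠ 0) :
    ∃ (C : Type u) (_ : CommRing C) (φ : A →+* C) (z : Fin r → C), Function.Injective φ ∧
      ∀ i, (P i).eval₂ φ (z i) = 0 := by
  induction r with
  | zero => exact ⟨A, inferInstance, RingHom.id A, fun i => i.elim0, Function.injective_id, fun i => i.elim0⟩
  | succ r ih =>
    obtain ⟨C, _, φ, z, hφ, hz⟩ := ih (fun i => P i.succ) (fun i => hm _) (fun i => hd _)
    haveI : Nontrivial C := hφ.nontrivial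
    let Q := (P 0).map φ
    have hQ : Q.Monic := (hm 0).map φ
    have hdeg : Q.degree ≠ 0 := by
      rw [(hm 0).degree_map φ, Polynomial.degree_eq_natDegree (hm 0).ne_zero]
      exact_mod_cast hd 0
    have hinj : Function.Injective (AdjoinRoot.of Q) := by
      refine (injective_iff_map_eq_zero _).mpr fun x hx => ?_
      have h1 : Q ∣ Polynomial.C x := AdjoinRoot.mk_eq_zero.mp hx
      by_contra hne
      refine hQ.not_dvd_of_degree_lt (Polynomial.C_ne_zero.mpr hne) ?_ h1
      rw [Polynomial.degree_C hne]
      exact lt_of_le_of_ne (Polynomial.zero_le_degree_iff.mpr hQ.ne_zero) hdeg.symm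
    refine ⟨AdjoinRoot Q, inferInstance, (AdjoinRoot.of Q).comp φ, Fin.cases (AdjoinRoot.root Q) (fun i => AdjoinRoot.of Q (z i)),
      hinj.comp hφ, Fin.cases ?_ fun i => ?_⟩
    · simp only [Fin.cases_zero]
      rw [← Polynomial.eval₂_map]
      exact AdjoinRoot.eval₂_root Q
    · simp only [Fin.cases_succ]
      rw [← Polynomial.hom_eval₂, hz, map_zero]

theorem finrank_cotangent_eq_of_ker_le {B B' : Type u} [CommRing B] [IsLocalRing B] [IsNoetherianRing B]
    [CommRing B'] [IsLocalRing B'] (ψ : B →+* B') (hψ : Function.Surjective ψ)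
    (hker : RingHom.ker ψ ≤ maximalIdeal B ^ 2) :
    Module.finrank (ResidueField B) (CotangentSpace B) = Module.finrank (ResidueField B') (CotangentSpace B') := by
  haveI : IsNoetherianRing B' := isNoetherianRing_of_surjective B B' ψ hψ
  haveI : IsLocalHom ψ := ⟨fun a ha => by
    by_contra h
    obtain ⟨y, hy⟩ := hψ ↑(ha.unit⁻¹)
    have h1 : 1 - a * y ∈ maximalIdeal B := Ideal.pow_le_self two_ne_zero (hker (by
      rw [RingHom.mem_ker, map_sub, map_one, map_mul, hy, IsUnit.mul_val_inv, sub_self]))
    have h2 : (1 : B) - a * y + a * y ∈ maximalIdeal B :=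
      Ideal.add_mem _ h1 (Ideal.mul_mem_right y _ ((mem_maximalIdeal a).mpr h))
    rw [sub_add_cancel] at h2
    exact (maximalIdeal.isMaximal B).ne_top ((Ideal.eq_top_iff_one _).mpr h2)⟩
  rw [← spanFinrank_maximalIdeal_eq_finrank_cotangentSpace, ← spanFinrank_maximalIdeal_eq_finrank_cotangentSpace]
  have hmap : (maximalIdeal B).map ψ = maximalIdeal B' := map_maximalIdeal_of_surjective ψ hψ
  refine le_antisymm ?_ ?_
  · obtain ⟨g, hgc, hg⟩ := (IsNoetherian.noetherian (maximalIdeal B')).exists_span_finset_card_eq_spanFinrank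
    classical
    choose s hs using hψ
    let G := g.image s
    have hG : Ideal.span (G : Set B) ≤ maximalIdeal B := by
      rw [Ideal.span_le]
      intro x hx
      obtain ⟨y, hy, rfl⟩ := Finset.mem_image.mp hx
      have hy' : y ∈ maximalIdeal B' := hg ▸ Submodule.subset_span hy
      rw [SetLike.mem_coe, mem_maximalIdeal, mem_nonunits_iff] at *
      exact fun hu => hy' (hs y ▸ hu.map ψ)
    have hle : maximalIdeal B ≤ Ideal.span (G : Set B) ⊔ maximalIdeal B • maximalIdeal B := by
      intro x hx
      have hx' : ψ x ∈ (Ideal.span (G : Set B)).map ψ := by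
        have h1 : ψ x ∈ maximalIdeal B' := hmap ▸ Ideal.mem_map_of_mem ψ hx
        rw [← hg] at h1
        refine (Submodule.span_le.mpr ?_ : Submodule.span B' (g : Set B') ≤ (Ideal.span (G : Set B)).map ψ) h1
        intro y hy
        rw [← hs y]
        exact Ideal.mem_map_of_mem ψ (Ideal.subset_span (Finset.mem_image_of_mem s hy))
      obtain ⟨z, hz, hzx⟩ := (Ideal.mem_map_iff_of_surjective ψ (fun y => ⟨s y, hs y⟩)).mp hx'
      have h2 : x - z ∈ maximalIdeal B • maximalIdeal B := by
        rw [smul_eq_mul, ← pow_two]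
        exact hker (by rw [RingHom.mem_ker, map_sub, hzx, sub_self])
      rw [← add_sub_cancel z x]
      exact Submodule.add_mem_sup hz h2
    have heq : Submodule.span B (G : Set B) = maximalIdeal B :=
      le_antisymm hG (Submodule.le_of_le_smul_of_le_jacobson_bot (IsNoetherian.noetherian _)
        (maximalIdeal_le_jacobson _) hle)
    calc Submodule.spanFinrank (maximalIdeal B)
        = (Submodule.span B (G : Set B)).spanFinrank := by rw [heq]
      _ ≤ (G : Set B).ncard := Submodule.spanFinrank_span_le_ncard_of_finite G.finite_toSet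
      _ ≤ g.card := by rw [Set.ncard_coe_finset]; exact Finset.card_image_le
      _ = _ := hgc
  · rw [← hmap]
    exact Ideal.spanFinrank_map_le_of_fg ψ (IsNoetherian.noetherian _)

/-- The images of `df` are independent in `K ⊗ Ω[A/ℤ]` iff they are separated by derivations into `K`. -/
theorem linearIndependent_D_iff_exists_derivation {A : Type u} [CommRing A] [IsLocalRing A] {r : ℕ} (f : Fin r → A) :
    LinearIndependent (ResidueField A) (fun i => (1 : ResidueField A) ⊗ₜ[A] KaehlerDifferential.D ℤ A (f i)) ↔
      ∀ j, ∃ δ : Derivation ℤ A (ResidueField A), ∀ i, δ (f i) = if i = j then 1 else 0 := by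
  classical
  constructor
  · intro h j
    let L := Fintype.linearCombination (ResidueField A) (fun i => (1 : ResidueField A) ⊗ₜ[A] KaehlerDifferential.D ℤ A (f i))
    obtain ⟨l, hl⟩ := L.exists_leftInverse_of_injective
      (LinearMap.ker_eq_bot.mpr (linearIndependent_iff_injective_fintypeLinearCombination.mp h))
    refine ⟨((((LinearMap.proj j).comp l).restrictScalars A).comp
      (TensorProduct.mk A (ResidueField A) Ω[A⁄ℤ] 1)).compDer (KaehlerDifferential.D ℤ A), fun i => ?_⟩
    have h2 := congrFun (LinearMap.congr_fun hl (Pi.single i 1)) j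
    simp only [L, LinearMap.comp_apply, Fintype.linearCombination_apply_single, one_smul, LinearMap.id_apply,
      Pi.single_apply] at h2
    show l ((1 : ResidueField A) ⊗ₜ[A] KaehlerDifferential.D ℤ A (f i)) j = _
    rw [h2]
    by_cases hij : i = j
    · simp [hij]
    · rw [if_neg hij, if_neg (Ne.symm hij)]
  · intro h
    choose δ hδ using h
    rw [Fintype.linearIndependent_iff]
    intro g hg j
    have h2 := congrArg ((δ j).liftKaehlerDifferential.liftBaseChange (ResidueField A)) hg
    simpa [map_sum, hδ] using h2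

end Groth.Agent.PPoly3
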