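import Groth.Agent.Lib.PPoly3.Artin
import Groth.Agent.Lib.PPoly3.Local

/-!
Regularity of `A[T]/(F)` for `F` congruent to `Tᵢ^p - fᵢ` modulo `m²`.
-/

set_option autoImplicit false
set_option linter.style.haveILetI false

universe u

open IsLocalRing TensorProduct

namespace Groth.Agent.PPoly3

theorem linearIndependent_D_iff_of_surjective {A A' : Type u} [CommRing A] [IsLocalRing A] [CommRing A'] [IsLocalRing A']
    (q : A →+* A') [IsLocalHom q] (hq : Function.Surjective q) (hker : RingHom.ker q ≤ maximalIdeal A ^ 2)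
    {r : ℕ} (f : Fin r → A) :
    LinearIndependent (ResidueField A) (fun i => (1 : ResidueField A) ⊗ₜ[A] KaehlerDifferential.D ℤ A (f i)) ↔
      LinearIndependent (ResidueField A') (fun i => (1 : ResidueField A') ⊗ₜ[A'] KaehlerDifferential.D ℤ A' (q (f i))) := by
  classical
  rw [linearIndependent_D_iff_exists_derivation, linearIndependent_D_iff_exists_derivation]
  let e : ResidueField A →+* ResidueField A' := IsLocalRing.ResidueField.map q
  have hes : Function.Surjective e := fun y => by
    obtain ⟨a, rfl⟩ := residue_surjective y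
    obtain ⟨b, rfl⟩ := hq a
    exact ⟨residue A b, IsLocalRing.ResidueField.map_residue q b⟩
  let E : ResidueField A ≃+* ResidueField A' := RingEquiv.ofBijective e ⟨e.injective, hes⟩
  have hE : ∀ a, E (residue A a) = residue A' (q a) := fun a => IsLocalRing.ResidueField.map_residue q a
  refine forall_congr' fun j => ⟨?_, ?_⟩
  · rintro ⟨δ, hδ⟩
    have hvan : ∀ a ∈ maximalIdeal A ^ 2, δ a = 0 := by
      intro a ha
      rw [pow_two] at ha
      refine Submodule.mul_induction_on ha (fun x hx y hy => ?_) fun x y hx hy => by rw [map_add, hx, hy, add_zero]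
      rw [Derivation.leibniz, Algebra.smul_def, Algebra.smul_def, IsLocalRing.ResidueField.algebraMap_eq,
        (residue_eq_zero_iff x).mpr hx, (residue_eq_zero_iff y).mpr hy]
      simp
    choose s hs using hq
    have hwd : ∀ a b, q a = q b → δ a = δ b := fun a b hab => by
      rw [← sub_eq_zero, ← map_sub]; exact hvan _ (hker (by rw [RingHom.mem_ker, map_sub, hab, sub_self]))
    let d₀ : A' →+ ResidueField A' := AddMonoidHom.mk' (fun y => E (δ (s y))) fun x y => by
      rw [← map_add, ← map_add, hwd (s (x + y)) (s x + s y) (by rw [map_add q]; simp only [hs])]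
    refine ⟨Derivation.mk' d₀.toIntLinearMap fun x y => ?_, fun i => ?_⟩
    · show E (δ (s (x * y))) = x • E (δ (s y)) + y • E (δ (s x))
      rw [hwd (s (x * y)) (s x * s y) (by rw [map_mul q]; simp only [hs]), Derivation.leibniz, map_add,
        Algebra.smul_def, Algebra.smul_def, Algebra.smul_def, Algebra.smul_def, map_mul, map_mul,
        IsLocalRing.ResidueField.algebraMap_eq, IsLocalRing.ResidueField.algebraMap_eq, hE, hE]
      simp only [hs]
    · show E (δ (s (q (f i)))) = _
      rw [hwd (s (q (f i))) (f i) (hs _), hδ]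
      split_ifs <;> simp
  · rintro ⟨δ, hδ⟩
    let d₀ : A →+ ResidueField A := AddMonoidHom.mk' (fun a => E.symm (δ (q a))) fun x y => by
      rw [← map_add, ← map_add, ← map_add]
    refine ⟨Derivation.mk' d₀.toIntLinearMap fun x y => ?_, fun i => ?_⟩
    · show E.symm (δ (q (x * y))) = x • E.symm (δ (q y)) + y • E.symm (δ (q x))
      rw [map_mul, Derivation.leibniz, map_add, Algebra.smul_def, Algebra.smul_def, Algebra.smul_def, Algebra.smul_def,
        map_mul, map_mul, IsLocalRing.ResidueField.algebraMap_eq, IsLocalRing.ResidueField.algebraMap_eq,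
        ← hE, ← hE, RingEquiv.symm_apply_apply, RingEquiv.symm_apply_apply]
    · show E.symm (δ (q (f i))) = _
      rw [show δ (q (f i)) = _ from hδ i]
      split_ifs <;> simp

theorem isLocalRing_of_ker_le {A B B' : Type u} [CommRing A] [IsLocalRing A] [CommRing B] [Algebra A B]
    [Algebra.IsIntegral A B] [CommRing B'] [IsLocalRing B'] (ψ : B →+* B') (hψ : Function.Surjective ψ)
    (hker : RingHom.ker ψ ≤ (maximalIdeal A).map (algebraMap A B)) :
    IsLocalRing B ∧ ∀ M : Ideal B, M.IsMaximal → (maximalIdeal A).map (algebraMap A B) ≤ M := by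
  have hmB : ∀ M : Ideal B, M.IsMaximal → (maximalIdeal A).map (algebraMap A B) ≤ M := fun M hM => by
    rw [Ideal.map_le_iff_le_comap]
    haveI := hM
    exact (IsLocalRing.eq_maximalIdeal (Ideal.isMaximal_comap_of_isIntegral_of_isMaximal (R := A) M)).ge
  refine ⟨IsLocalRing.of_unique_max_ideal ⟨(maximalIdeal B').comap ψ, Ideal.comap_isMaximal_of_surjective ψ hψ,
    fun M hM => ?_⟩, hmB⟩
  have hle : RingHom.ker ψ ≤ M := hker.trans (hmB M hM)
  have hcm : (M.map ψ).comap ψ = M := by
    rw [Ideal.comap_map_of_surjective ψ hψ, ← RingHom.ker_eq_comap_bot, sup_eq_left.mpr hle]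
  haveI := hM
  have hmax : (M.map ψ).IsMaximal := (Ideal.map_eq_top_or_isMaximal_of_surjective ψ hψ hM).resolve_left
    (fun e => hM.ne_top (by rw [← hcm, e, Ideal.comap_top]))
  rw [← IsLocalRing.eq_maximalIdeal hmax, hcm]

theorem isRegularRing_iff_of_isLocalRing (B : Type u) [CommRing B] [IsLocalRing B] [IsNoetherianRing B] :
    IsRegularRing B ↔ IsRegularLocalRing B := by
  let e := (IsLocalization.atUnits B (maximalIdeal B).primeCompl (S := Localization.AtPrime (maximalIdeal B))
    (fun x hx => IsLocalRing.notMem_maximalIdeal.mp hx)).toRingEquiv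
  constructor
  · intro h
    haveI := h
    haveI : IsRegularLocalRing (Localization.AtPrime (maximalIdeal B)) :=
      IsRegularRing.isRegularLocalRing_localization _
    exact IsRegularLocalRing.of_ringEquiv e.symm
  · intro h
    haveI := h
    refine RegCpl3.isRegularRing_of_maximal fun M _ => ?_
    obtain rfl := IsLocalRing.eq_maximalIdeal (I := M) ‹_›
    exact IsRegularLocalRing.of_ringEquiv e

theorem injective_and_isIntegral {A B : Type u} [CommRing A] [Nontrivial A] [CommRing B] [Algebra A B]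
    {r : ℕ} (F : Fin r → MvPolynomial (Fin r) A) (t : Fin r → B)
    (hsurj : Function.Surjective (MvPolynomial.aeval (R := A) t))
    (hker : RingHom.ker (MvPolynomial.aeval (R := A) t) = Ideal.span (Set.range F))
    (P : Fin r → Polynomial A) (hPm : ∀ i, (P i).Monic) (hPd : ∀ i, (P i).natDegree ≠ 0)
    (heval : ∀ (C : Type u) [CommRing C] (φ : A →+* C) (z : Fin r → C) (i : Fin r),
      MvPolynomial.eval₂Hom φ z (F i) = (P i).eval₂ φ (z i)) :
    Function.Injective (algebraMap A B) ∧ Algebra.IsIntegral A B := by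
  classical
  refine ⟨?_, ⟨fun x => ?_⟩⟩
  · obtain ⟨C₀, _, φ, z, hφ, hz⟩ := exists_roots P hPm hPd
    intro a b hab
    apply hφ
    have hm : MvPolynomial.C a - MvPolynomial.C b ∈ RingHom.ker (MvPolynomial.aeval (R := A) t) := by
      rw [RingHom.mem_ker, map_sub, MvPolynomial.aeval_C, MvPolynomial.aeval_C, hab, sub_self]
    rw [hker] at hm
    have hle : Ideal.span (Set.range F) ≤ RingHom.ker (MvPolynomial.eval₂Hom φ z) := by
      refine Ideal.span_le.mpr ?_
      rintro _ ⟨i, rfl⟩
      show MvPolynomial.eval₂Hom φ z (F i) = 0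
      rw [heval, hz]
    have h := hle hm
    rw [RingHom.mem_ker, map_sub, MvPolynomial.eval₂Hom_C, MvPolynomial.eval₂Hom_C, sub_eq_zero] at h
    exact h
  · have hx : x ∈ Algebra.adjoin A (Set.range t) := by
      rw [Algebra.adjoin_range_eq_range_aeval]
      exact hsurj x
    refine Algebra.adjoin_le (S := integralClosure A B) (fun y hy => ?_) hx
    obtain ⟨i, rfl⟩ := hy
    refine ⟨P i, hPm i, ?_⟩
    rw [← heval B (algebraMap A B) t i]
    have h : F i ∈ RingHom.ker (MvPolynomial.aeval (R := A) t) := by rw [hker]; exact Ideal.subset_span ⟨i, rfl⟩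
    exact h

theorem exists_reduction {A B A' B' : Type u} [CommRing A] [CommRing B] [Algebra A B] [CommRing A'] [CommRing B']
    [Algebra A' B'] (q : A →+* A') (hq : Function.Surjective q)
    {r : ℕ} (F : Fin r → MvPolynomial (Fin r) A) (t : Fin r → B)
    (hsurj : Function.Surjective (MvPolynomial.aeval (R := A) t))
    (hker : RingHom.ker (MvPolynomial.aeval (R := A) t) = Ideal.span (Set.range F))
    (G : Fin r → MvPolynomial (Fin r) A') (t' : Fin r → B')
    (hsurj' : Function.Surjective (MvPolynomial.aeval (R := A') t'))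
    (hker' : RingHom.ker (MvPolynomial.aeval (R := A') t') = Ideal.span (Set.range G))
    (hF : ∀ i, MvPolynomial.map q (F i) = G i) :
    ∃ ψ : B →+* B', Function.Surjective ψ ∧ RingHom.ker ψ ≤ (RingHom.ker q).map (algebraMap A B) := by
  classical
  let ψ₀ : MvPolynomial (Fin r) A →+* B' := (MvPolynomial.aeval (R := A') t').toRingHom.comp (MvPolynomial.map q)
  have hle : RingHom.ker (MvPolynomial.aeval (R := A) t).toRingHom ≤ RingHom.ker ψ₀ := by
    show RingHom.ker (MvPolynomial.aeval (R := A) t) ≤ _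
    rw [hker]
    refine Ideal.span_le.mpr ?_
    rintro _ ⟨i, rfl⟩
    have h : G i ∈ RingHom.ker (MvPolynomial.aeval (R := A') t') := by rw [hker']; exact Ideal.subset_span ⟨i, rfl⟩
    show MvPolynomial.aeval (R := A') t' (MvPolynomial.map q (F i)) = 0
    rw [hF]
    exact h
  let ψ : B →+* B' := (MvPolynomial.aeval (R := A) t).toRingHom.liftOfSurjective hsurj ⟨ψ₀, hle⟩
  have hψ₀ : ∀ X, ψ (MvPolynomial.aeval (R := A) t X) = MvPolynomial.aeval (R := A') t' (MvPolynomial.map q X) :=
    fun X => RingHom.liftOfRightInverse_comp_apply _ _ _ _ X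
  refine ⟨ψ, fun y => ?_, fun x hx => ?_⟩
  · obtain ⟨Y, rfl⟩ := hsurj' y
    obtain ⟨X, rfl⟩ := MvPolynomial.map_surjective q hq Y
    exact ⟨_, hψ₀ X⟩
  · obtain ⟨X, rfl⟩ := hsurj x
    rw [RingHom.mem_ker, hψ₀] at hx
    have h1 : MvPolynomial.map q X ∈ (Ideal.span (Set.range F)).map (MvPolynomial.map q) := by
      rw [Ideal.map_span, ← Set.range_comp, show (MvPolynomial.map q) ∘ F = G from funext hF, ← hker']
      exact hx
    obtain ⟨Y, hY, hYX⟩ := (Ideal.mem_map_iff_of_surjective _ (MvPolynomial.map_surjective q hq)).mp h1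
    have h3 : X - Y ∈ (RingHom.ker q).map (MvPolynomial.C : A →+* MvPolynomial (Fin r) A) := by
      have : X - Y ∈ RingHom.ker (MvPolynomial.map (σ := Fin r) q) := by rw [RingHom.mem_ker, map_sub, hYX, sub_self]
      rwa [MvPolynomial.ker_map] at this
    rw [← hker] at hY
    have h4 : MvPolynomial.aeval (R := A) t X = MvPolynomial.aeval (R := A) t (X - Y) := by
      rw [map_sub, show MvPolynomial.aeval (R := A) t Y = 0 from hY, sub_zero]
    rw [h4]
    have h5 := Ideal.mem_map_of_mem (MvPolynomial.aeval (R := A) t).toRingHom h3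
    rw [Ideal.map_map] at h5
    rwa [show (MvPolynomial.aeval (R := A) t).toRingHom.comp MvPolynomial.C = algebraMap A B from
      RingHom.ext fun a => MvPolynomial.aeval_C t a] at h5

theorem regular_iff_aux {A B A' B' : Type u} [CommRing A] [IsRegularLocalRing A] [CommRing B] [Algebra A B]
    [CommRing A'] [IsLocalRing A'] [IsNoetherianRing A'] [CommRing B'] [Algebra A' B'] (p : ℕ) [Fact p.Prime]
    [CharP A' p] [CharP B' p] [Nontrivial B'] (q : A →+* A') [IsLocalHom q] (hq : Function.Surjective q)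
    (hkq : RingHom.ker q = maximalIdeal A ^ 2) (hm' : maximalIdeal A' ^ 2 = ⊥)
    {r : ℕ} (f : Fin r → A) (F : Fin r → MvPolynomial (Fin r) A) (t : Fin r → B)
    (hsurj : Function.Surjective (MvPolynomial.aeval (R := A) t))
    (hker : RingHom.ker (MvPolynomial.aeval (R := A) t) = Ideal.span (Set.range F))
    (t' : Fin r → B') (hsurj' : Function.Surjective (MvPolynomial.aeval (R := A') t'))
    (hker' : RingHom.ker (MvPolynomial.aeval (R := A') t') =
      Ideal.span (Set.range fun i => MvPolynomial.X i ^ p - MvPolynomial.C (q (f i))))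
    (hrel' : ∀ i, t' i ^ p = algebraMap A' B' (q (f i)))
    (hinj : Function.Injective (algebraMap A B)) [Algebra.IsIntegral A B]
    (hF : ∀ i, MvPolynomial.map q (F i) = MvPolynomial.X i ^ p - MvPolynomial.C (q (f i))) :
    IsLocalRing B ∧ (IsRegularRing B ↔
      LinearIndependent (ResidueField A) (fun i => (1 : ResidueField A) ⊗ₜ[A] KaehlerDifferential.D ℤ A (f i))) := by
  classical
  haveI : IsNoetherianRing B :=
    isNoetherianRing_of_surjective (MvPolynomial (Fin r) A) B (MvPolynomial.aeval (R := A) t).toRingHom hsurj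
  haveI : IsNoetherianRing B' :=
    isNoetherianRing_of_surjective (MvPolynomial (Fin r) A') B' (MvPolynomial.aeval (R := A') t').toRingHom hsurj'
  obtain ⟨hloc', hhom'⟩ := isLocalRing_of_pow hm' p (pow_mem_range p (fun i => q (f i)) t' hsurj' hrel')
  haveI := hloc'
  haveI := hhom'
  obtain ⟨ψ, hψ, hkerψ⟩ := exists_reduction q hq F t hsurj hker _ t' hsurj' hker' hF
  rw [hkq, Ideal.map_pow] at hkerψ
  obtain ⟨hloc, hmB⟩ := isLocalRing_of_ker_le ψ hψ (hkerψ.trans (Ideal.pow_le_self two_ne_zero))
  haveI := hloc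
  refine ⟨hloc, ?_⟩
  have hkerψ2 : RingHom.ker ψ ≤ maximalIdeal B ^ 2 :=
    hkerψ.trans (Ideal.pow_right_mono (hmB _ (maximalIdeal.isMaximal B)) 2)
  have hcB := finrank_cotangent_eq_of_ker_le ψ hψ hkerψ2
  have hcA := finrank_cotangent_eq_of_ker_le q hq hkq.le
  have key := finrank_cotangent_eq_iff p (fun i => q (f i)) t' hsurj' hker'
  have hA := (IsRegularLocalRing.iff_finrank_cotangentSpace A).1 ‹_›
  rw [linearIndependent_D_iff_of_surjective q hq hkq.le f, ← key, ← hcA, ← hcB,
    isRegularRing_iff_of_isLocalRing, IsRegularLocalRing.iff_finrank_cotangentSpace,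
    VarDim.ringKrullDim_eq_of_isIntegral hinj, ← hA, Nat.cast_inj]
  exact eq_comm

theorem regular_iff {A B : Type u} [CommRing A] [IsRegularLocalRing A] [CommRing B] [Algebra A B] (p : ℕ) [Fact p.Prime]
    (hp : (p : A) ∈ maximalIdeal A ^ 2) {r : ℕ} (f : Fin r → A) (F : Fin r → MvPolynomial (Fin r) A) (t : Fin r → B)
    (hsurj : Function.Surjective (MvPolynomial.aeval (R := A) t))
    (hker : RingHom.ker (MvPolynomial.aeval (R := A) t) = Ideal.span (Set.range F))
    (P : Fin r → Polynomial A) (hPm : ∀ i, (P i).Monic) (hPd : ∀ i, (P i).natDegree ≠ 0)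
    (heval : ∀ (C : Type u) [CommRing C] (φ : A →+* C) (z : Fin r → C) (i : Fin r),
      MvPolynomial.eval₂Hom φ z (F i) = (P i).eval₂ φ (z i))
    (hF : ∀ i, MvPolynomial.map (Ideal.Quotient.mk (maximalIdeal A ^ 2)) (F i) =
      MvPolynomial.X i ^ p - MvPolynomial.C (Ideal.Quotient.mk (maximalIdeal A ^ 2) (f i))) :
    IsLocalRing B ∧ (IsRegularRing B ↔
      LinearIndependent (ResidueField A) (fun i => (1 : ResidueField A) ⊗ₜ[A] KaehlerDifferential.D ℤ A (f i))) := by
  classical
  obtain ⟨hinj, hint⟩ := injective_and_isIntegral F t hsurj hker P hPm hPd heval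
  haveI := hint
  -- reduction modulo `m²`
  let A' := A ⧸ maximalIdeal A ^ 2
  let q : A →+* A' := Ideal.Quotient.mk _
  have hm2 : maximalIdeal A ^ 2 ≠ ⊤ := fun e =>
    (maximalIdeal.isMaximal A).ne_top (top_le_iff.mp (e ▸ Ideal.pow_le_self two_ne_zero))
  haveI : Nontrivial A' := Ideal.Quotient.nontrivial_iff.mpr hm2
  haveI : IsLocalRing A' := IsLocalRing.of_surjective' q Ideal.Quotient.mk_surjective
  haveI : IsLocalHom q := IsLocalHom.of_surjective q Ideal.Quotient.mk_surjective
  have hpA' : ((p : ℕ) : A') = 0 := by rw [← map_natCast q]; exact Ideal.Quotient.eq_zero_iff_mem.mpr hp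
  haveI : CharP A' p := (CharP.charP_iff_prime_eq_zero Fact.out).mpr hpA'
  have hm' : maximalIdeal A' ^ 2 = ⊥ := by
    rw [← IsLocalRing.map_maximalIdeal_of_surjective q Ideal.Quotient.mk_surjective, ← Ideal.map_pow]
    exact Ideal.map_quotient_self _
  let I' : Ideal (MvPolynomial (Fin r) A') :=
    Ideal.span (Set.range fun i => MvPolynomial.X i ^ p - MvPolynomial.C (q (f i)))
  haveI : Nontrivial (MvPolynomial (Fin r) A' ⧸ I') := nontrivial_quotient p fun i => q (f i)
  haveI : CharP (MvPolynomial (Fin r) A' ⧸ I') p := (CharP.charP_iff_prime_eq_zero Fact.out).mpr (by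
    rw [← map_natCast (algebraMap A' (MvPolynomial (Fin r) A' ⧸ I')), hpA', map_zero])
  let t' : Fin r → MvPolynomial (Fin r) A' ⧸ I' := fun i => Ideal.Quotient.mk I' (MvPolynomial.X i)
  have ht' : MvPolynomial.aeval (R := A') t' = Ideal.Quotient.mkₐ A' I' :=
    MvPolynomial.algHom_ext fun i => by simp only [MvPolynomial.aeval_X]; rfl
  refine regular_iff_aux p q Ideal.Quotient.mk_surjective Ideal.mk_ker hm' f F t hsurj hker t'
    (by rw [ht']; exact Ideal.Quotient.mk_surjective) (by rw [ht']; exact Ideal.mk_ker) (fun i => ?_) hinj hF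
  have h : Ideal.Quotient.mk I' (MvPolynomial.X i ^ p - MvPolynomial.C (q (f i))) = 0 :=
    Ideal.Quotient.eq_zero_iff_mem.mpr (Ideal.subset_span ⟨i, rfl⟩)
  rw [map_sub, map_pow, sub_eq_zero] at h
  exact h

end Groth.Agent.PPoly3
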